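import Mathlib
import Cfsg.Agent.Base
import Cfsg.Agent.Lib.Rwl.Bas
import Cfsg.Agent.Lib.Rwl.Red
import Cfsg.Agent.Lib.Core.CoprimeAbelian
import Cfsg.Agent.S0126
import Cfsg.Agent.S2975

set_option autoImplicit false

namespace H44.RW
open Subgroup H69 H70 Cfsg
open scoped commutatorElement

universe u
variable {G : Type u} [Group G] [Finite G]

namespace Hyp
variable {x : G} (h : Hyp x)
include h

theorem ne_one : x ≠ 1 := by
  rintro rfl
  simpa using h.cex.order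

theorem c_ne {a : G} (h1 : a ≠ 1) : 𝐂¹(a) ≠ ⊤ := fun e => h1 (by
  rw [← mem_bot, ← h.cex.center_eq_bot, mem_center_iff]
  exact fun g => (mem_c1.1 (e ▸ mem_top g : g ∈ 𝐂¹(a))).symm)

theorem n_ne {q : ℕ} [Fact q.Prime] {C : Subgroup G} (hC : IsPGroup q C) (h1 : C ≠ ⊥) : 𝐍(C) ≠ ⊤ := fun e => by
  have : C.Normal := normal_iff_top_le_normalizer.2 e.ge
  exact h.cex.not_isPGroup_of_normal h1 hC

theorem uniq {t g : G} (ht : t ∈ 𝐂¹(x)) (hc : 𝐂¹(t) ≤ 𝐂¹(x)) (hg : g * t * g⁻¹ ∈ 𝐂¹(x)) :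
    g ∈ 𝐂¹(x) := by
  have k := c1_symm hg
  rw [← cj_centralizer_singleton, mem_cj] at k
  have := h.lc.mem h.cex.isPGroup h.ne_one (mem_c1.2 rfl) (g := g⁻¹) (by rw [inv_inv]; exact hc k)
  exact inv_mem_iff.1 this

/-- every 3-subgroup is conjugate into `C(x)` -/
theorem cj_le {R : Subgroup G} (hR : IsPGroup 3 R) : ∃ g : G, R ^ᶜ g ≤ 𝐂¹(x) := by
  obtain ⟨P, hP, hx⟩ := exists_isSylowIn_le (L := ⊤) h.cex.isPGroup le_top
  obtain ⟨g, -, hg⟩ := hP.exists_cj_le hR le_top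
  exact ⟨g, hg.trans (Iso.le_centralizer h.cex.iso hP.isP (hx (mem_zpowers x)))⟩

theorem f1 {M : Subgroup G} (hM : M ≠ ⊤) (hx : x ∈ M) (hn : ¬ M ≤ 𝐂¹(x)) :
    (∀ R ≤ M, IsPGroup 3 R → x ∈ R → IsCyclic R) ∧ HasNormalPComplement 3 M := by
  obtain ⟨O, hO⟩ : ∃ O, O = (pPrimeCore 3 M).map M.subtype := ⟨_, rfl⟩
  have nO : M ≤ 𝐍(O) := hO ▸ le_normalizer.trans (H1.normalizer_le_normalizer_map_subtype_pPrimeCore M)
  have cO : (Nat.card O).Coprime 3 := hO ▸ H1.coprime_card_map_subtype_pPrimeCore M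
  have O1 : ¬ O ≤ 𝐂¹(x) := fun k => hn fun g hg => by
    have k1 := h.cex.commutator_mem hx hM hg
    rw [← hO] at k1
    have k2 : g * x * g⁻¹ ∈ 𝐂¹(x) := by simpa using mul_mem (k k1) (mem_c1.2 rfl : x ∈ 𝐂¹(x))
    exact mem_centralizer_singleton_iff_conj.2 (h.cex.iso g (mem_c1.1 k2))
  have cyc : ∀ R ≤ M, IsPGroup 3 R → x ∈ R → IsCyclic R := fun R hRM hR hxR => by
    by_contra nc
    obtain ⟨A, -, eA, cA⟩ := Cfsg.Agent.S0126.result (p := 3) (by norm_num) hR nc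
    have pA : IsPGroup 3 (A.map R.subtype) := hR.to_le (map_subtype_le A)
    have lA : A.map R.subtype ≤ 𝐂¹(x) := (map_subtype_le A).trans (Iso.le_centralizer h.cex.iso hR hxR)
    refine O1 (H2.le_of_forall_centralizer_le (A := A.map R.subtype) ?_ ?_
      (((map_subtype_le A).trans hRM).trans nO) ?_ fun a ha a1 => inf_le_right.trans ?_)
    · have := eA.1
      infer_instance
    · intro hc
      obtain ⟨g, hg⟩ := IsCyclic.exists_ofOrder_eq_natCard (α := A.map R.subtype)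
      obtain ⟨g, a, ha, rfl⟩ := g
      rw [card_map_subtype, cA, ← Subgroup.orderOf_coe] at hg
      have : orderOf (R.subtype a) ∣ 3 := orderOf_dvd_of_pow_eq_one (by rw [← map_pow, eA.2 a ha, map_one])
      rw [hg] at this
      norm_num at this
    · rw [card_map_subtype, cA]; exact cO.symm.pow_left 2
    · rw [← H69.centralizer_zpowers a]
      exact (centralizer_le_normalizer _).trans (h.lc _ (pA.to_le (zpowers_le.2 ha))
        (fun e => a1 (zpowers_eq_bot.1 e)) (zpowers_le.2 (lA ha)))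
  refine ⟨cyc, ?_⟩
  have px : IsPGroup 3 (zpowers (⟨x, hx⟩ : M)) := isPGroup_zpowers_of_orderOf ⟨1, by
    rw [← Subgroup.orderOf_coe, pow_one]; exact h.cex.order⟩
  refine Iso.hasNormalPComplement_of_isCyclic ((h.lc.sub hx).iso px) px
    (fun e => h.ne_one (congrArg Subtype.val e)) fun P => ?_
  obtain ⟨Q, hQ⟩ := px.exists_le_sylow
  have := cyc _ (map_subtype_le (Q : Subgroup M)) (Q.isPGroup'.map _) ⟨_, hQ (mem_zpowers _), rfl⟩
  have : IsCyclic (Q : Subgroup M) := isCyclic_of_surjective _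
    ((Q : Subgroup M).equivMapOfInjective M.subtype M.subtype_injective).symm.surjective
  exact isCyclic_of_surjective _ (Sylow.equiv Q P).surjective

theorem le_of_bad {M : Subgroup G} (hM : M ≠ ⊤) (hx : x ∈ M) (hb : Bad M) : M ≤ 𝐂¹(x) := by
  by_contra hn
  exact not_bad_of_npc (h.f1 hM hx hn).2 hb

/-- if `R ≤ C(x)` is centralised by `a ∈ C(x)` with `C(a) ≰ C(x)`, the 2-elements of `N(R) ∩ C(x)` centralise `R` -/
theorem cent_of_J {R : Subgroup G} (hR : IsPGroup 3 R) (hRx : R ≤ 𝐂¹(x)) {a : G} (a1 : a ≠ 1)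
    (ha : a ∈ 𝐂¹(x)) (hJ : ¬ 𝐂¹(a) ≤ 𝐂¹(x)) (hRa : R ≤ 𝐂¹(a)) {s : G} (h2 : E2 s) (hn : s ∈ 𝐍(R))
    (hs : s ∈ 𝐂¹(x)) : s ∈ 𝐂(R) := by
  have p1 : IsPGroup 3 (R ⊔ zpowers x : Subgroup G) := isPGroup_sup_of_le_normalizer_right hR h.cex.isPGroup
    (le_normalizer_of_le_centralizer (by rwa [H69.centralizer_zpowers]))
  have cy := (h.f1 (h.c_ne a1) (c1_symm ha) hJ).1 _ (sup_le hRa (zpowers_le.2 (c1_symm ha))) p1
    (mem_sup_right (mem_zpowers x))
  have n1 : s ∈ 𝐍(R ⊔ zpowers x) := zpowers_le.1 (H69.le_normalizer_sup (zpowers_le.2 hn)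
    (le_normalizer_of_le_centralizer (by rw [H69.centralizer_zpowers]; exact zpowers_le.2 hs)))
  exact centralizer_anti le_sup_left (cyc_cent p1 cy h2 n1 (mem_sup_right (mem_zpowers x)) h.ne_one hs)

theorem kk (h2 : ¬ Two x) : KK G := by
  have key : ∀ R : Subgroup G, IsPGroup 3 R → R ≤ 𝐂¹(x) → ∀ t ∈ 𝐂(R), orderOf t = 2 → ∀ s ∈ 𝐍(R), E2 s →
      s ∈ 𝐂(R) := by
    intro R hR hx t ht ot s hs es
    by_cases R1 : R = ⊥
    · rw [R1, centralizer_bot]; exact mem_top _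
    have n := h.lc R hR R1 hx
    have t1 : t ≠ 1 := by rintro rfl; simp at ot
    have tx := n (centralizer_le_normalizer _ ht)
    by_cases hJ : 𝐂¹(t) ≤ 𝐂¹(x)
    · exfalso
      obtain ⟨S, hS, htS⟩ := exists_isSylowIn_le (p := 2) (L := 𝐂¹(x))
        (isPGroup_zpowers_of_orderOf ⟨1, by rw [ot, pow_one]⟩) (zpowers_le.2 tx)
      refine h2 ⟨S, isSylowIn_of_normalizer le_top ?_, hS.le⟩
      rw [top_inf_eq]
      exact hS.mono le_normalizer fun g hg =>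
        h.uniq tx hJ (hS.le (conj_mem_of_mem_normalizer hg (htS (mem_zpowers t))))
    · exact h.cent_of_J hR hx t1 tx hJ (fun r hr => mem_c1.2 (mem_centralizer_iff_commute.1 ht r hr).symm) es hs (n hs)
  intro R hR t ht ot s hs es
  obtain ⟨g, hg⟩ := h.cj_le hR
  have := key _ (isPGroup_cj hR g) hg (g * t * g⁻¹) (by rw [← cj_centralizer]; exact cj_mem g ht)
    (by rw [← ot]; exact (MulAut.conj g).orderOf_eq t) (g * s * g⁻¹) (by rw [← cj_normalizer]; exact cj_mem g hs)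
    (es.cj g)
  rwa [← cj_centralizer, cj_mem_iff] at this

/-- uses S2975 -/
theorem inv_sylow (hb : Bad (⊤ : Subgroup G)) : ∃ T : Subgroup G, IsSylowIn 2 T ⊤ ∧ x ∈ 𝐍(T) := by
  obtain ⟨R, -, hR, s, -, es, hn, hc⟩ := hb
  have R1 : R ≠ ⊥ := by
    rintro rfl
    exact hc (by rw [centralizer_bot]; exact mem_top _)
  have s1 : s ≠ 1 := by rintro rfl; exact hc (one_mem _)
  obtain ⟨g, hg⟩ := h.cj_le hR
  have sx : g * s * g⁻¹ ∈ 𝐂¹(x) := h.lc _ (isPGroup_cj hR g) (fun e => R1 (cj_eq_bot_iff.1 e)) hg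
    (by rw [← cj_normalizer]; exact cj_mem g hn)
  obtain ⟨Q, ⟨q1, q2, q3⟩, hmax⟩ := exists_maximal_of_wellFoundedGT
    (fun Q : Subgroup G => IsPGroup 2 Q ∧ x ∈ 𝐍(Q) ∧ g * s * g⁻¹ ∈ Q) ⟨zpowers (g * s * g⁻¹), (es.cj g).isP,
      centralizer_le_normalizer _ (by rw [H69.centralizer_zpowers]; exact c1_symm sx), mem_zpowers _⟩
  rcases (Cfsg.Agent.S2975.result x h.cex.order h.cex.iso h.cex.nz h.cex.sub (fun N _ => h.cex.quot N) 2).1 Q q1 q2
    (fun R' r1 r2 r3 => le_antisymm (hmax ⟨r1, r2, r3 q3⟩ r3) r3) with e | ⟨S, e⟩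
  · rw [e, mem_bot] at q3
    exact absurd (by simpa [mul_inv_eq_one] using q3) s1
  · exact ⟨Q, e ▸ isSylowIn_top S, q2⟩

end Hyp

end H44.RW
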